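import Cfsg.Agent.H6.Suz.Rep
import Cfsg.Agent.H6.Suz.C1.Main
import Cfsg.Agent.H6.Suz.C2.Main
import Cfsg.Agent.H6.Suz.C3.Main
import Cfsg.Agent.H6.Suz.C4.Main
import Cfsg.Agent.H6.Suz.C5.Main

set_option autoImplicit false
set_option maxRecDepth 100000

namespace Cfsg.H6.Suz

theorem cover : Cover (gen ev Ws) ⊤ 1782 := hX ▸ C1.cover hev hR

theorem ubH : UB (gen ev Ws) 251596800 :=
  (((UB.bot.cover (C5.cover hev hR)).cover (C4.cover hev hR)).cover (C3.cover hev hR)).cover (C2.cover hev hR)

theorem ub : UB (⊤ : Subgroup Spor.Suz) 448345497600 := ubH.cover cover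

def I : List Ivl := [(1, 417, [7,2,3,4,3,2,7,6,2,3,4,3,2,6]), (417, 1782, [7])]

theorem act : ∃ φ : Spor.Suz →* Equiv.Perm ℕ, IsAct φ ev img 1782 8 := by
  obtain ⟨ψ, hψ⟩ := lift rep.1 rep.2.1
  exact ⟨_, rep.2.2.comp ψ hψ⟩

/-- The permutation representation. -/
noncomputable def φ : Spor.Suz →* Equiv.Perm ℕ := act.choose

theorem hφ : IsAct φ ev img 1782 8 := act.choose_spec

theorem prim : Prim φ ev (gen ev Ws) 1782 I :=
  prim_sound hφ cover (List.forall_mem_cons.mpr ⟨iv0 hφ, (List.forall_mem_cons.mpr ⟨iv1 hφ, (by simp)⟩)⟩) (by decide +kernel)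

theorem coatom : IsCoatom (gen ev Ws) :=
  prim.isCoatom hφ hX (C := [[], [0,0,4,0,6,2], [0]]) (by decide +kernel)

def lW0 : List (List ℕ) := [[nat_lit 1], [nat_lit 2], [nat_lit 3], [nat_lit 4], [nat_lit 5]]

theorem l0 : lvlChk img 1782 8 [1,0] (39, lW0, unp 99 (nat_lit 0x1840300015803000158010000970200010a0300018004000180020000c1030000bb0200016a030000ce04000156030000cd040000cd03000160040001600200014a0400014a0200014b030000ff040000ff02000102030001020100013504000136030001360000012e0300011e0400011e0300010604000108040001120400011202000113030000fb040000fc030000fc000000ed040000ee030000ee000000e8030000e8010000e1020000e2030000d0040000d0020000be040000be020000bf030000c6040000c7030000c7000000b8030000b8010000af030000af010000ac020000a9020000a6030000aa030000a7040000990400009a0300008f0300008f01000094030000940100008c0200008602000084030000810300007f040000820400008202000075030000750100006f020000720200006d0300006703000065040000630400006303000063010000590200005403000057030000520400004c0400004c0300004c0000003f0300003a0400003d0400003d0300003d01000027040000270300002700))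 = true := by
  decide +kernel

def lW1 : List (List ℕ) := [[nat_lit 2], [nat_lit 3], [nat_lit 4, nat_lit 3, nat_lit 2, nat_lit 1]]

theorem l1 : lvlChk img 1782 8 [39,1,0] (63, lW1, unp 35 (nat_lit 0x16d02000107010001070000010a0200011a0100011a0000009a020001210100016c0000018902000167010001350000012e020000e1010000e1000000fb020001130200014a010000ff010000fb000000ed010000ff000001520200010201000102000000670200008f010000bf00000054020000670100005700000059020000750100009a0000003f02)) = true := by
  decide +kernel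

def lW2 : List (List ℕ) := [[nat_lit 2], [nat_lit 3], [nat_lit 1, nat_lit 2, nat_lit 1, nat_lit 2, nat_lit 3, nat_lit 4, nat_lit 3, nat_lit 4, nat_lit 5, nat_lit 4, nat_lit 3, nat_lit 4, nat_lit 5, nat_lit 2, nat_lit 1, nat_lit 2, nat_lit 1]]

theorem l2 : lvlChk img 1782 8 [63,39,1,0] (89, lW2, unp 6 (nat_lit 0x18902000167010001350000009a020000750000005901)) = true := by
  decide +kernel

def lW3 : List (List ℕ) := [[nat_lit 1, nat_lit 2, nat_lit 1, nat_lit 2, nat_lit 3, nat_lit 4, nat_lit 3, nat_lit 4, nat_lit 5, nat_lit 4, nat_lit 3, nat_lit 4, nat_lit 5, nat_lit 2, nat_lit 1, nat_lit 2, nat_lit 1]]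

theorem l3 : lvlChk img 1782 8 [89,63,39,1,0] (1392, lW3, unp 1 (nat_lit 0x57000)) = true := by
  decide +kernel

def lW4 : List (List ℕ) := [[nat_lit 1, nat_lit 3, nat_lit 2, nat_lit 4, nat_lit 5, nat_lit 4, nat_lit 3, nat_lit 2, nat_lit 4, nat_lit 3, nat_lit 2, nat_lit 4, nat_lit 5, nat_lit 1, nat_lit 2, nat_lit 3, nat_lit 4, nat_lit 3, nat_lit 4, nat_lit 5, nat_lit 2, nat_lit 1]]

theorem l4 : lvlChk img 1782 8 [1392,89,63,39,1,0] (9, lW4, unp 2 (nat_lit 0x1910000000900)) = true := by
  decide +kernel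

def lW5 : List (List ℕ) := [[nat_lit 1, nat_lit 2, nat_lit 3, nat_lit 4, nat_lit 3, nat_lit 5, nat_lit 4, nat_lit 3, nat_lit 2, nat_lit 4, nat_lit 3, nat_lit 4, nat_lit 3, nat_lit 5, nat_lit 4, nat_lit 3, nat_lit 2, nat_lit 1, nat_lit 2, nat_lit 3, nat_lit 4, nat_lit 5, nat_lit 3, nat_lit 4, nat_lit 3]]

theorem l5 : lvlChk img 1782 8 [9,1392,89,63,39,1,0] (5, lW5, unp 1 (nat_lit 0x500)) = true := by
  decide +kernel

def lW6 : List (List ℕ) := [[nat_lit 2]]

theorem l6 : lvlChk img 1782 8 [5,9,1392,89,63,39,1,0] (2, lW6, unp 1 (nat_lit 0x200)) = true := by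
  decide +kernel

theorem finite : Finite Spor.Suz := ub.top.1

def bs : List ℕ := [2,5,9,1392,89,63,39,1,0]

theorem lb : LBn φ ⊤ 1782 bs 448345497600 := by
  have := finite
  exact LBn.cast ((((((((prim.lb2 (e := I.head (by decide)) (List.head_mem _)).stepT hφ l0).stepT hφ l1).stepT hφ l2).stepT hφ l3).stepT hφ l4).stepT hφ l5).stepT hφ l6) (by decide +kernel)

theorem main : Nat.card Spor.Suz = 448345497600 ∧ fixS φ bs = ⊥ ∧ Oracle ev img 8 bs := by
  have := finite
  exact lb.oracle hφ ub.top.2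

theorem normal (N : Subgroup Spor.Suz) [N.Normal] (hN : N ≠ ⊥) :
    ∀ t ∈ ([[1], [2], [3], [4], [5], [6], [7]] : List (List ℕ)), evL ev t ∈ N := by
  have := finite
  exact prim.normal_contains hev coatom lb.2 main.2.1 main.2.2 (p := 11) (k := 1) (j := 1) (by norm_num)
    main.1 (x := [7,5,2,6,3,4]) (St := [([7,5,2,6,3,4], [], [1], 11, 2), ([1], [], [2], 5, 2), ([2], [], [3], 3, 2), ([2], [], [6], 3, 2), ([2], [], [7], 3, 2), ([7,5,2,6,3,4], [2,3], [4], 11, 2), ([4], [], [5], 3, 2)]) (by decide +kernel) N hN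

theorem simple : IsSimpleGroup Spor.Suz := by
  have := prim.nontrivial
  exact isSimple_of_contains hX normal

end Cfsg.H6.Suz
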